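import Cfsg.Agent.H55.Palfy.Grp
import Cfsg.Agent.H670.PSing

/-!
# `FactT2a`: degrees (helper55)

* `core` : `P` normal with complement `H` of coprime order, `θ ∈ Irr P`, `S = H_θ`: `|H : S| d θ(1)` is a degree of `G`
  for the degrees `d` of `S`.
-/

set_option autoImplicit false
set_option linter.unusedSectionVars false

namespace Cfsg.Agent.H55.T2a

open Cfsg Cfsg.Agent.H670.Palfy Subgroup
open Cfsg.Agent.H672 Cfsg.Agent.H672.RM Cfsg.Agent.H675.Nd Cfsg.Agent.Characters.Core
open scoped commutatorElement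

universe u

section proj

variable {G : Type u} [Group G] {P H : Subgroup G} [hPn : P.Normal] (hc : P.IsComplement' H)

/-- the projection onto the complement -/
noncomputable def pi : G →* H := (hc.symm.QuotientMulEquiv).toMonoidHom.comp (QuotientGroup.mk' P)

theorem pi_coe (k : H) : pi hc (k : G) = k := by
  have h1 : (hc.symm.QuotientMulEquiv).symm k = QuotientGroup.mk' P (k : G) := rfl
  show (hc.symm.QuotientMulEquiv) (QuotientGroup.mk' P (k : G)) = k
  rw [← h1]
  exact MulEquiv.apply_symm_apply _ k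

theorem pi_P {x : G} (hx : x ∈ P) : pi hc x = 1 := by
  have h1 : QuotientGroup.mk' P x = 1 := by
    rw [QuotientGroup.mk'_apply, QuotientGroup.eq_one_iff]
    exact hx
  show (hc.symm.QuotientMulEquiv) (QuotientGroup.mk' P x) = 1
  rw [h1, map_one]

theorem pi_mul {x : G} (hx : x ∈ P) (k : H) : pi hc (x * k) = k := by
  rw [map_mul, pi_P hc hx, pi_coe, one_mul]

theorem pi_surjective : Function.Surjective (pi hc) := fun k => ⟨k, pi_coe hc k⟩

end proj

section core

variable {G : Type u} [Group G] [Finite G] {P H : Subgroup G} [hPn : P.Normal] (hc : P.IsComplement' H)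
  (hcop : (Nat.card P).Coprime (Nat.card H)) {θ : P → ℂ} (hθ : IsIrrCharacter P θ) (S : Subgroup H)
  (hS : ∀ k : H, k ∈ S ↔ (k : G) ∈ stab θ)

include hθ hS in
theorem stab_eq : stab θ = S.comap (pi hc) := by
  ext g
  obtain ⟨⟨x, k⟩, hxk⟩ := hc.2 g
  have hg : g = (x : G) * k := hxk.symm
  have hx : (x : G) ∈ stab θ := le_stab (isIrr_isClassFunction hθ) x.2
  rw [hg, Subgroup.mem_comap, pi_mul hc x.2, hS k]
  constructor
  · intro h
    have := Subgroup.mul_mem _ (Subgroup.inv_mem _ hx) h
    rwa [inv_mul_cancel_left] at this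
  · intro h
    exact Subgroup.mul_mem _ hx h

include hc hcop hθ hS in
/-- **The degrees over `θ`.** -/
theorem core {d : ℕ} (hd : d ∈ charDegrees S) : S.index * d * charDegree θ ∈ charDegrees G := by
  classical
  obtain ⟨ψ, hψ, hψ1⟩ := H424.DegTools.mem_charDegrees.1 hd
  have hst := stab_eq hc hθ S hS
  have hnorm : ∀ g : G, g ∈ Subgroup.normalizer (P : Set G) := fun g => by
    rw [Subgroup.normalizer_eq_top]; exact Subgroup.mem_top g
  have hI : Inert P (stab θ) (⊤ : Subgroup G) θ :=
    { le := le_top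
      nrm := fun g _ => hnorm g
      irr := hθ
      eq := by rw [top_inf_eq] }
  have hKT : P ≤ stab θ := le_stab (isIrr_isClassFunction hθ)
  -- the projection of the stabilizer
  let πT : ↥(stab θ) →* S := ((pi hc).comp (stab θ).subtype).codRestrict S (by
    intro t
    have h1 : (t : G) ∈ S.comap (pi hc) := by rw [← hst]; exact t.2
    exact h1)
  have hπT : Function.Surjective πT := by
    rintro ⟨k, hk⟩
    refine ⟨⟨(k : G), (hS k).1 hk⟩, Subtype.ext ?_⟩
    exact pi_coe hc k
  have hπP : ∀ x : P, πT (Subgroup.inclusion hKT x) = 1 := fun x => Subtype.ext (pi_P hc x.2)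
  have hβ : IsIrrCharacter ↥(stab θ) (ψ ∘ πT) := isIrr_comp πT hπT hψ
  -- the extension
  have hcop' : (Nat.card P).Coprime (P.relIndex (stab θ)) := by
    refine Nat.Coprime.coprime_dvd_right ?_ hcop
    have h1 : P.index = Nat.card H := hc.symm.index_eq_card
    rw [← h1]
    exact Subgroup.relIndex_dvd_index_of_normal P (stab θ)
  obtain ⟨χ, hχ, hres⟩ := exists_ext hKT hθ le_rfl hcop'
  have hg := gal hKT (stab_le θ) hθ hχ hres
  have hmem := hg.mapsTo (show ψ ∘ πT ∈ {β : ↥(stab θ) → ℂ | IsIrrCharacter _ β ∧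
    ∀ k : P, β (Subgroup.inclusion hKT k) = β 1} from ⟨hβ, fun k => by
      simp only [Function.comp, hπP, map_one]⟩)
  obtain ⟨hη, hov⟩ := hmem
  obtain ⟨Ψ, hΨ, -, -, hdeg⟩ := hI.lift hη hov
  have h1 : charDegree ((ψ ∘ πT) * χ) = d * charDegree θ := by
    apply charDegree_of_eq
    have h2 : χ 1 = θ 1 := by
      have := hres 1
      rwa [map_one] at this
    simp only [Pi.mul_apply, Function.comp, map_one, hψ1, h2, Nat.cast_mul]
    rw [coe_charDegree hθ]
  have h2 : (stab θ).relIndex (⊤ : Subgroup G) = S.index := by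
    rw [Subgroup.relIndex_top_right, hst, Subgroup.index_comap_of_surjective _ (pi_surjective hc)]
  have h3 : charDegree Ψ ∈ charDegrees ↥(⊤ : Subgroup G) := ⟨⟨Ψ, hΨ⟩, rfl⟩
  have h4 := H424.DegTools.charDegrees_of_surjective (Subgroup.topEquiv (G := G)).symm.toMonoidHom
    (Subgroup.topEquiv (G := G)).symm.surjective h3
  change charDegree Ψ = (stab θ).relIndex ⊤ * charDegree ((ψ ∘ πT) * χ) at hdeg
  rw [hdeg, h1, h2, ← mul_assoc] at h4
  exact h4

end core

/-- the stabilizers -/
theorem smul_eq_iff {G : Type u} [Group G] {N : Subgroup G} [hN : N.Normal] (g : G) (v : LC N) :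
    g • v = v ↔ g ∈ stab (lf v.hom : N → ℂ) := by
  have hnorm : ∀ g : G, g ∈ Subgroup.normalizer (N : Set G) := fun g => by
    rw [Subgroup.normalizer_eq_top]; exact Subgroup.mem_top g
  have key : ∀ g : G, g • v = v ↔ ∀ n : N, v.hom ⟨g⁻¹ * n * g, by
      have := hN.conj_mem n n.2 g⁻¹
      rwa [inv_inv] at this⟩ = v.hom n := by
    intro g
    constructor
    · intro h n
      rw [← LC.smul_hom, h]
    · intro h
      apply LC.ext
      intro n
      rw [LC.smul_hom]
      exact h n
  have h1 : g ∈ stab (lf v.hom : N → ℂ) ↔ g⁻¹ • v = v := by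
    rw [mem_stab, key]
    constructor
    · rintro ⟨-, h⟩ n
      have h2 := congrFun h n
      rw [tw_apply (hnorm g)] at h2
      have h3 : v.hom ⟨g * n * g⁻¹, hN.conj_mem n n.2 g⟩ = v.hom n := Units.ext h2
      rw [← h3]
      congr 1
      apply Subtype.ext
      simp
    · intro h
      refine ⟨hnorm g, ?_⟩
      funext n
      rw [tw_apply (hnorm g)]
      have h3 := h n
      show (v.hom _ : ℂ) = (v.hom n : ℂ)
      rw [← h3]
      congr 2
      apply Subtype.ext
      simp
  rw [h1, inv_smul_eq_iff]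
  exact eq_comm

section pre

variable {G : Type u} [Group G] [Finite G] {M P H : Subgroup G} [hMn : M.Normal] [hPn : P.Normal] {p : ℕ}
  (h : T2pre G M P H p)

include h

theorem coprime : (Nat.card P).Coprime (Nat.card H) := by
  have hf : Fact p.Prime := ⟨h.prime⟩
  obtain ⟨n, hn⟩ := (IsPGroup.iff_card (p := p)).1 h.isP
  rw [hn]
  exact Nat.Coprime.pow_left _ ((Nat.Prime.coprime_iff_not_dvd h.prime).2 h.ndvd)

/-- **`cd`** -/
theorem cd : charDegrees H ⊆ charDegrees G :=
  H424.DegTools.charDegrees_of_surjective (pi h.compl) (pi_surjective h.compl)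

/-- **`cfgW`** -/
theorem cfgW : Cfg (charDegrees G) H (LC P) 1 := by
  intro v _ d hd
  refine ⟨_, core h.compl (coprime h) (isIrr_lf v.hom) (MulAction.stabilizer H v) (fun k => ?_) hd, ?_, one_dvd _⟩
  · rw [MulAction.mem_stabilizer_iff, ← smul_eq_iff]
    exact Iff.rfl
  · rw [charDegree_lf, mul_one]

end pre

end Cfsg.Agent.H55.T2a
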