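import Cfsg.Agent.H670.Palfy.Defs
import Cfsg.Agent.H675.Nd.Cliff
import Cfsg.Agent.H424.DegTools

/-!
# `FactT2a`: the group theoretic part (helper55)
-/

set_option autoImplicit false
set_option linter.unusedSectionVars false

namespace Cfsg.Agent.H55.T2a

open Cfsg Cfsg.Agent.H670.Palfy Subgroup
open scoped commutatorElement

universe u

variable {G : Type u} [Group G] [Finite G] {M P H : Subgroup G} [hMn : M.Normal] [hPn : P.Normal] {p : ℕ}

section pre

variable (h : T2pre G M P H p)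

include h

theorem M_le : M ≤ P := by
  rw [← h.comm]
  exact Subgroup.commutator_le_left P P

theorem exists_mul (g : G) : ∃ x ∈ P, ∃ k ∈ H, g = x * k := by
  obtain ⟨⟨x, k⟩, hxk⟩ := h.compl.2 g
  exact ⟨x, x.2, k, k.2, hxk.symm⟩

theorem comm_M {a b : G} (ha : a ∈ M) (hb : b ∈ M) : a * b = b * a := h.cen a ha b (M_le h hb)

/-- an element trivial on the linear characters of `P` is trivial on `P / M` -/
theorem mem_of_triv {k : G} (hk : ∀ w : LC P, k • w = w) {x : G} (hx : x ∈ P) : k⁻¹ * x * k * x⁻¹ ∈ M := by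
  have hxk : k⁻¹ * x * k ∈ P := by
    have := hPn.conj_mem x hx k⁻¹
    rwa [inv_inv] at this
  by_contra hn
  obtain ⟨β, -, hβ⟩ := H675.Nd.exists_lin_ne (M_le h) (le_of_eq h.comm)
    (x := (⟨k⁻¹ * x * k * x⁻¹, P.mul_mem hxk (P.inv_mem hx)⟩ : P)) hn
  apply hβ
  have h1 : (k • LC.of β).hom ⟨x, hx⟩ = (LC.of β).hom ⟨x, hx⟩ := by rw [hk]
  rw [LC.smul_hom] at h1
  have h2 : (⟨k⁻¹ * x * k * x⁻¹, P.mul_mem hxk (P.inv_mem hx)⟩ : P) = ⟨k⁻¹ * x * k, hxk⟩ * (⟨x, hx⟩ : P)⁻¹ := rfl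
  rw [h2, map_mul, map_inv, mul_inv_eq_one]
  exact h1

/-- **`ker`**: it is trivial on `M` -/
theorem comm_of_triv {k : G} (hk : ∀ w : LC P, k • w = w) {m : G} (hm : m ∈ M) : k⁻¹ * m * k = m := by
  let C : Subgroup G :=
    { carrier := {m | k⁻¹ * m * k = m}
      one_mem' := by simp
      mul_mem' := by
        intro a b ha hb
        have ha' : k⁻¹ * a * k = a := ha
        have hb' : k⁻¹ * b * k = b := hb
        show k⁻¹ * (a * b) * k = a * b
        calc k⁻¹ * (a * b) * k = (k⁻¹ * a * k) * (k⁻¹ * b * k) := by group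
          _ = a * b := by rw [ha', hb']
      inv_mem' := by
        intro a ha
        have ha' : k⁻¹ * a * k = a := ha
        show k⁻¹ * a⁻¹ * k = a⁻¹
        calc k⁻¹ * a⁻¹ * k = (k⁻¹ * a * k)⁻¹ := by group
          _ = a⁻¹ := by rw [ha'] }
  have hle : ⁅P, P⁆ ≤ C := by
    rw [Subgroup.commutator_le]
    intro x hx y hy
    show k⁻¹ * ⁅x, y⁆ * k = ⁅x, y⁆
    have hc1 := h.cen _ (mem_of_triv h hk hx)
    have hc2 := h.cen _ (mem_of_triv h hk hy)
    set m₁ := k⁻¹ * x * k * x⁻¹ with e1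
    set m₂ := k⁻¹ * y * k * y⁻¹ with e2
    have f1 : k⁻¹ * x * k = m₁ * x := by rw [e1]; group
    have f2 : k⁻¹ * y * k = m₂ * y := by rw [e2]; group
    have hm₂P : m₂ ∈ P := M_le h (mem_of_triv h hk hy)
    have g1 : k⁻¹ * ⁅x, y⁆ * k = (m₁ * x) * (m₂ * y) * (m₁ * x)⁻¹ * (m₂ * y)⁻¹ := by
      rw [← f1, ← f2, commutatorElement_def]
      group
    have c1 := hc1 x hx
    have c2 := hc1 y hy
    have c3 := hc2 x hx
    have c4 := hc2 y hy
    have c5 := hc1 m₂ hm₂P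
    rw [g1, commutatorElement_def]
    calc m₁ * x * (m₂ * y) * (m₁ * x)⁻¹ * (m₂ * y)⁻¹
        = m₁ * (x * m₂) * y * x⁻¹ * m₁⁻¹ * y⁻¹ * m₂⁻¹ := by group
      _ = m₁ * (m₂ * x) * y * x⁻¹ * m₁⁻¹ * y⁻¹ * m₂⁻¹ := by rw [c3]
      _ = (m₁ * m₂) * (x * y * x⁻¹) * (m₁⁻¹ * y⁻¹) * m₂⁻¹ := by group
      _ = (m₁ * m₂) * (x * y * x⁻¹) * (y⁻¹ * m₁⁻¹) * m₂⁻¹ := by
          have : m₁⁻¹ * y⁻¹ = y⁻¹ * m₁⁻¹ := by rw [← mul_inv_rev, ← mul_inv_rev, c2]
          rw [this]
      _ = (m₁ * m₂) * (x * y * x⁻¹ * y⁻¹) * (m₁⁻¹ * m₂⁻¹) := by group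
      _ = (x * y * x⁻¹ * y⁻¹) * (m₁ * m₂) * (m₁⁻¹ * m₂⁻¹) := by
          have hxy : x * y * x⁻¹ * y⁻¹ ∈ P :=
            P.mul_mem (P.mul_mem (P.mul_mem hx hy) (P.inv_mem hx)) (P.inv_mem hy)
          have d1 := hc1 _ hxy
          have d2 := hc2 _ hxy
          congr 1
          calc m₁ * m₂ * (x * y * x⁻¹ * y⁻¹) = m₁ * (m₂ * (x * y * x⁻¹ * y⁻¹)) := by group
            _ = (m₁ * (x * y * x⁻¹ * y⁻¹)) * m₂ := by rw [d2]; group
            _ = _ := by rw [d1]; group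
      _ = (x * y * x⁻¹ * y⁻¹) * (m₁ * m₂) * (m₂ * m₁)⁻¹ := by group
      _ = x * y * x⁻¹ * y⁻¹ := by rw [← c5, mul_inv_cancel_right]
  rw [h.comm] at hle
  exact hle hm

theorem ker {k : G} (hk : ∀ w : LC P, k • w = w) (v : LC M) : k • v = v := by
  apply LC.ext
  intro n
  rw [LC.smul_hom]
  congr 1
  exact Subtype.ext (comm_of_triv h hk n.2)

/-- a `p'`-element trivial on the linear characters of `P` centralizes `P` -/
theorem cent_of_triv {z : ℕ} (hz : z.Prime) (hzp : z ≠ p) {k : G} {j : ℕ} (hkz : k ^ z ^ j = 1)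
    (hk : ∀ w : LC P, k • w = w) {x : G} (hx : x ∈ P) : k⁻¹ * x * k = x := by
  have hm := mem_of_triv h hk hx
  have hkm := comm_of_triv h hk hm
  obtain ⟨m, e1⟩ : ∃ m, m = k⁻¹ * x * k * x⁻¹ := ⟨_, rfl⟩
  rw [← e1] at hm hkm
  have f1 : k⁻¹ * x * k = m * x := by rw [e1]; group
  have key : ∀ n : ℕ, (k ^ n)⁻¹ * x * k ^ n = m ^ n * x := by
    intro n
    induction n with
    | zero => simp
    | succ n ih =>
      have h1 : (k ^ (n + 1))⁻¹ * x * k ^ (n + 1) = k⁻¹ * ((k ^ n)⁻¹ * x * k ^ n) * k := by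
        rw [pow_succ]; group
      have h2 : ∀ i : ℕ, k⁻¹ * m ^ i * k = m ^ i := by
        intro i
        have := conj_pow (a := k⁻¹) (b := m) (i := i)
        rw [inv_inv, hkm] at this
        exact this.symm
      rw [h1, ih]
      calc k⁻¹ * (m ^ n * x) * k = (k⁻¹ * m ^ n * k) * (k⁻¹ * x * k) := by group
        _ = m ^ n * (m * x) := by rw [h2, f1]
        _ = m ^ (n + 1) * x := by rw [pow_succ, mul_assoc]
  have h1 := key (z ^ j)
  rw [hkz, inv_one, one_mul, mul_one] at h1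
  have h2 : m ^ z ^ j = 1 := by
    have : m ^ z ^ j * x = 1 * x := by rw [one_mul]; exact h1.symm
    exact mul_right_cancel this
  obtain ⟨i, hi⟩ := h.isP ⟨m, M_le h hm⟩
  have h3 : m ^ p ^ i = 1 := congrArg Subtype.val hi
  have h4 : Nat.Coprime (z ^ j) (p ^ i) := Nat.Coprime.pow _ _ ((Nat.coprime_primes hz h.prime).2 hzp)
  have h5 := pow_gcd_eq_one.2 ⟨h2, h3⟩
  rw [h4.gcd_eq_one, pow_one] at h5
  rw [f1, h5, one_mul]

/-- **`nt`** -/
theorem nt {z : ℕ} (hz : z.Prime) (hzp : z ≠ p) (hr : Rho z G) (Z : Sylow z H) (hZ : (Z : Subgroup H).Normal)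
    (hab : ∀ a ∈ (Z : Subgroup H), ∀ b ∈ (Z : Subgroup H), a * b = b * a) (ht : Triv (LC P) (Z : Subgroup H)) :
    False := by
  have hf : Fact z.Prime := ⟨hz⟩
  let A : Subgroup G := (Z : Subgroup H).map H.subtype
  have hAc : ∀ a ∈ A, ∀ x ∈ P, a * x = x * a := by
    rintro _ ⟨a, ha, rfl⟩ x hx
    obtain ⟨j, hj⟩ := Z.isPGroup' ⟨a, ha⟩
    have hj' : (a : G) ^ z ^ j = 1 := congrArg (fun y : Z => ((y : H) : G)) hj
    have h1 := cent_of_triv h hz hzp hj' (fun w => ht a ha w) hx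
    have h2 : x * (a : G) = a * x := by
      rw [mul_assoc, inv_mul_eq_iff_eq_mul] at h1
      exact h1
    exact h2.symm
  have hAn : A.Normal := by
    constructor
    intro a ha g
    obtain ⟨x, hx, k, hk, rfl⟩ := exists_mul h g
    have h1 : k * a * k⁻¹ ∈ A := by
      obtain ⟨b, hb, rfl⟩ := ha
      exact ⟨⟨k, hk⟩ * b * ⟨k, hk⟩⁻¹, hZ.conj_mem b hb ⟨k, hk⟩, rfl⟩
    have h2 : x * k * a * (x * k)⁻¹ = k * a * k⁻¹ := by
      have h3 := hAc _ h1 x hx
      calc x * k * a * (x * k)⁻¹ = x * (k * a * k⁻¹) * x⁻¹ := by group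
        _ = (k * a * k⁻¹) * x * x⁻¹ := by rw [h3]
        _ = _ := by group
    rw [h2]
    exact h1
  have hAab : ∀ a ∈ A, ∀ b ∈ A, a * b = b * a := by
    rintro _ ⟨a, ha, rfl⟩ _ ⟨b, hb, rfl⟩
    exact congrArg Subtype.val (hab a ha b hb)
  obtain ⟨e, he, hze⟩ := hr
  have h1 := H424.DegTools.ito he A hAab
  have h2 : z ∣ A.index := hze.trans h1
  have h3 : Nat.card A * A.index = Nat.card P * (Nat.card (Z : Subgroup H) * (Z : Subgroup H).index) := by
    rw [Subgroup.card_mul_index, Subgroup.card_mul_index, h.compl.card_mul_card]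
  have h4 : Nat.card A = Nat.card (Z : Subgroup H) := Subgroup.card_map_of_injective H.subtype_injective
  rw [h4] at h3
  have h5 : A.index = Nat.card P * (Z : Subgroup H).index := by
    have hpos : 0 < Nat.card (Z : Subgroup H) := Nat.card_pos
    apply Nat.eq_of_mul_eq_mul_left hpos
    rw [h3]
    ring
  rw [h5] at h2
  rcases (hz.dvd_mul).1 h2 with h6 | h6
  · have hfp : Fact p.Prime := ⟨h.prime⟩
    obtain ⟨i, hi⟩ := (IsPGroup.iff_card (p := p)).1 h.isP
    rw [hi] at h6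
    exact hzp ((Nat.prime_dvd_prime_iff_eq hz h.prime).1 (hz.dvd_of_dvd_pow h6))
  · exact Z.not_dvd_index h6

end pre

/-! ### Duality -/

theorem card_hom {A : Type*} [Group A] [Finite A] (hA : ∀ a b : A, a * b = b * a) :
    Nat.card (A →* ℂˣ) = Nat.card A := by
  let _ : CommGroup A := { (inferInstance : Group A) with mul_comm := hA }
  exact CommGroup.card_monoidHom_of_hasEnoughRootsOfUnity A ℂ

/-- a group of linear characters without common kernel contains all of them -/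
theorem eq_top_of_ann {A : Type*} [Group A] [Finite A] (hA : ∀ a b : A, a * b = b * a) (W : Subgroup (A →* ℂˣ))
    (hW : ∀ a : A, (∀ f ∈ W, f a = 1) → a = 1) : W = ⊤ := by
  have hfin : Finite (A →* ℂˣ) := Nat.finite_of_card_ne_zero (by rw [card_hom hA]; exact Nat.card_pos.ne')
  let ev : A →* (W →* ℂˣ) :=
    { toFun := fun a => { toFun := fun f => (f : A →* ℂˣ) a, map_one' := rfl, map_mul' := fun _ _ => rfl }
      map_one' := MonoidHom.ext fun f => map_one (f : A →* ℂˣ)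
      map_mul' := fun a b => MonoidHom.ext fun f => map_mul (f : A →* ℂˣ) a b }
  have hinj : Function.Injective ev := by
    rw [injective_iff_map_eq_one]
    intro a ha
    apply hW
    intro f hf
    exact congrArg (fun φ : W →* ℂˣ => φ ⟨f, hf⟩) ha
  have h1 : Nat.card (W →* ℂˣ) = Nat.card W := card_hom fun a b => mul_comm a b
  have hfin' : Finite (W →* ℂˣ) := Nat.finite_of_card_ne_zero (by rw [h1]; exact Nat.card_pos.ne')
  have h2 := Nat.card_le_card_of_injective ev hinj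
  rw [h1, ← card_hom hA] at h2
  exact Subgroup.eq_top_of_le_card _ h2

section pre2

variable (h : T2pre G M P H p)

include h

theorem M_comm (a b : M) : a * b = b * a := Subtype.ext (comm_M h a.2 b.2)

/-- **`irr`** -/
theorem irr : Irr H (LC M) := by
  intro W hW
  let N : Subgroup G :=
    { carrier := {m | ∃ hm : m ∈ M, ∀ w ∈ W, LC.hom w ⟨m, hm⟩ = 1}
      one_mem' := ⟨M.one_mem, fun w _ => map_one (LC.hom w)⟩
      mul_mem' := by
        rintro a b ⟨ha, ha'⟩ ⟨hb, hb'⟩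
        refine ⟨M.mul_mem ha hb, fun w hw => ?_⟩
        have h1 : (⟨a * b, M.mul_mem ha hb⟩ : M) = ⟨a, ha⟩ * ⟨b, hb⟩ := rfl
        rw [h1, map_mul, ha' w hw, hb' w hw, one_mul]
      inv_mem' := by
        rintro a ⟨ha, ha'⟩
        refine ⟨M.inv_mem ha, fun w hw => ?_⟩
        have h1 : (⟨a⁻¹, M.inv_mem ha⟩ : M) = (⟨a, ha⟩ : M)⁻¹ := rfl
        rw [h1, map_inv, ha' w hw, inv_one] }
  have hNM : N ≤ M := fun m hm => hm.1
  have hNn : N.Normal := by
    constructor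
    rintro m ⟨hm, hm'⟩ g
    obtain ⟨x, hx, k, hk, rfl⟩ := exists_mul h g
    have h1 : k * m * k⁻¹ ∈ M := hMn.conj_mem m hm k
    have h2 : x * k * m * (x * k)⁻¹ = k * m * k⁻¹ := by
      have h3 := h.cen _ h1 x hx
      calc x * k * m * (x * k)⁻¹ = x * (k * m * k⁻¹) * x⁻¹ := by group
        _ = (k * m * k⁻¹) * x * x⁻¹ := by rw [h3]
        _ = _ := by group
    rw [h2]
    refine ⟨h1, fun w hw => ?_⟩
    have h3 := hm' _ (hW (⟨k, hk⟩⁻¹ : H) w hw)
    have h4 : ((⟨k, hk⟩⁻¹ : H) • w : LC M) = k⁻¹ • w := rfl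
    rw [h4, LC.smul_hom] at h3
    rw [← h3]
    congr 1
    apply Subtype.ext
    simp
  rcases h.minN.min N hNn hNM with h1 | h1
  · right
    let W' : Subgroup (↥M →* ℂˣ) :=
      { carrier := {f | LC.of f ∈ W}
        one_mem' := W.zero_mem
        mul_mem' := fun {a b} ha hb => W.add_mem ha hb
        inv_mem' := fun {a} ha => W.neg_mem ha }
    have h2 : W' = ⊤ := by
      refine eq_top_of_ann (M_comm h) W' fun a ha => ?_
      have h3 : (a : G) ∈ N := ⟨a.2, fun w hw => ha w.hom hw⟩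
      rw [h1, Subgroup.mem_bot] at h3
      exact Subtype.ext h3
    rw [eq_top_iff]
    intro w _
    have h3 : w.hom ∈ W' := by rw [h2]; exact Subgroup.mem_top _
    exact h3
  · left
    rw [eq_bot_iff]
    intro w hw
    rw [AddSubgroup.mem_bot]
    apply LC.ext
    intro n
    have h2 : (n : G) ∈ N := by rw [h1]; exact n.2
    exact h2.2 w hw

theorem isP_M : IsPGroup p M := h.isP.to_le (M_le h)

/-- **`card`** -/
theorem card : ∃ n : ℕ, 0 < n ∧ Nat.card (LC M) = p ^ n := by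
  have hf : Fact p.Prime := ⟨h.prime⟩
  obtain ⟨n, hn⟩ := (IsPGroup.iff_card (p := p)).1 (isP_M h)
  have h1 : Nat.card (LC M) = Nat.card M := card_hom (M_comm h)
  refine ⟨n, ?_, by rw [h1, hn]⟩
  rcases Nat.eq_zero_or_pos n with rfl | h0
  · exfalso
    rw [pow_zero] at hn
    exact h.minN.ne (Subgroup.card_eq_one.1 hn)
  · exact h0

/-- **`cardW`** -/
theorem cardW : ∃ n : ℕ, Nat.card (LC P) = p ^ n := by
  have hf : Fact p.Prime := ⟨h.prime⟩
  have h1 : IsPGroup p (Abelianization P) := h.isP.to_quotient _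
  obtain ⟨n, hn⟩ := (IsPGroup.iff_card (p := p)).1 h1
  refine ⟨n, ?_⟩
  rw [← hn, ← card_hom (A := Abelianization P) fun a b => mul_comm a b]
  exact Nat.card_congr Abelianization.lift

end pre2

end Cfsg.Agent.H55.T2a
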