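import Cfsg.Agent.H55.Palfy.Deg
import Cfsg.Agent.CharactersDeep.SmallDegree
import Cfsg.Agent.H597.RelThompson

/-!
# `FactT2a`: invariant characters over `λ` (helper55)

`P` a group of class two, `M = P'` central, `λ` a linear character of `M`, `Z` the subgroup of the `x ∈ P` with
`[x, P] ≤ ker λ`.

* `zero_off`, `uniq` : an irreducible character of `P` over an extension `μ` of `λ` to `Z` vanishes outside `Z`; it is
  unique;
* `exists_mu` : there is an extension `μ` of `λ` to `Z` invariant under the stabilizer of `λ` in `H`;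
* `exists_theta` : `θ ∈ Irr P` with the same stabilizer in `H`, `p ∣ θ(1)` if `λ ≠ 1`.
-/

set_option autoImplicit false
set_option linter.unusedSectionVars false
set_option linter.style.haveILetI false

namespace Cfsg.Agent.H55.T2a

open Cfsg Cfsg.Agent.H670.Palfy Subgroup
open Cfsg.Agent.H672 Cfsg.Agent.H672.RM Cfsg.Agent.H675.Nd Cfsg.Agent.Characters.Core
open scoped commutatorElement

universe u

variable {G : Type u} [Group G] [Finite G] {M P H : Subgroup G} [hMn : M.Normal] [hPn : P.Normal] {p : ℕ}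

/-- the kernel of a linear character of `M` -/
def KL (v : LC M) : Subgroup G := (LC.hom v).ker.map M.subtype

theorem mem_KL {v : LC M} {g : G} : g ∈ KL v ↔ ∃ hg : g ∈ M, LC.hom v ⟨g, hg⟩ = 1 := by
  constructor
  · rintro ⟨m, hm, rfl⟩
    exact ⟨m.2, hm⟩
  · rintro ⟨hg, h1⟩
    exact ⟨⟨g, hg⟩, h1, rfl⟩

theorem KL_le (v : LC M) : KL v ≤ M := fun _ hg => (mem_KL.1 hg).1

section pre

variable (h : T2pre G M P H p)

include h

theorem comm_mem {x y : G} (hx : x ∈ P) (hy : y ∈ P) : ⁅x, y⁆ ∈ M := by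
  rw [← h.comm]
  exact Subgroup.commutator_mem_commutator hx hy

/-- the elements of `P` central modulo the kernel of `v` -/
def ZL (v : LC M) : Subgroup G where
  carrier := {x | x ∈ P ∧ ∀ y ∈ P, ⁅x, y⁆ ∈ KL v}
  one_mem' := ⟨P.one_mem, fun y _ => by rw [commutatorElement_one_left]; exact Subgroup.one_mem _⟩
  mul_mem' := by
    rintro a b ⟨ha, ha'⟩ ⟨hb, hb'⟩
    refine ⟨P.mul_mem ha hb, fun y hy => ?_⟩
    have h1 : ⁅a * b, y⁆ = ⁅b, y⁆ * ⁅a, y⁆ := by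
      have hc := h.cen _ (comm_mem h hb hy) a ha
      calc ⁅a * b, y⁆ = a * ⁅b, y⁆ * y * a⁻¹ * y⁻¹ := by rw [commutatorElement_def, commutatorElement_def]; group
        _ = ⁅b, y⁆ * a * y * a⁻¹ * y⁻¹ := by rw [hc]
        _ = ⁅b, y⁆ * ⁅a, y⁆ := by rw [commutatorElement_def a y]; group
    rw [h1]
    exact Subgroup.mul_mem _ (hb' y hy) (ha' y hy)
  inv_mem' := by
    rintro a ⟨ha, ha'⟩
    refine ⟨P.inv_mem ha, fun y hy => ?_⟩
    have h1 : ⁅a⁻¹, y⁆ = (⁅a, y⁆)⁻¹ := by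
      have hc := h.cen _ (Subgroup.inv_mem _ (comm_mem h ha hy)) a⁻¹ (P.inv_mem ha)
      calc ⁅a⁻¹, y⁆ = a⁻¹ * (⁅a, y⁆)⁻¹ * a := by rw [commutatorElement_def, commutatorElement_def]; group
        _ = (⁅a, y⁆)⁻¹ * a⁻¹ * a := by rw [hc]
        _ = _ := by group
    rw [h1]
    exact Subgroup.inv_mem _ (ha' y hy)

variable (v : LC M)

theorem ZL_le : ZL h v ≤ P := fun _ hx => hx.1

theorem M_le_ZL : M ≤ ZL h v := by
  intro m hm
  refine ⟨M_le h hm, fun y hy => ?_⟩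
  have h1 : ⁅m, y⁆ = 1 := commutatorElement_eq_one_iff_mul_comm.2 (h.cen m hm y hy)
  rw [h1]
  exact Subgroup.one_mem _

theorem P_norm : P ≤ Subgroup.normalizer ((ZL h v : Subgroup G) : Set G) := by
  have key : ∀ y ∈ P, ∀ x ∈ ZL h v, y * x * y⁻¹ ∈ ZL h v := by
    intro y hy x hx
    have h1 : y * x * y⁻¹ = ⁅y, x⁆ * x := by rw [commutatorElement_def]; group
    rw [h1]
    exact Subgroup.mul_mem _ (M_le_ZL h v (comm_mem h hy hx.1)) hx
  intro y hy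
  rw [Subgroup.mem_normalizer_iff]
  intro x
  refine ⟨key y hy x, fun hx => ?_⟩
  have := key y⁻¹ (P.inv_mem hy) _ hx
  have e : y⁻¹ * (y * x * y⁻¹) * y⁻¹⁻¹ = x := by group
  rwa [e] at this

theorem conj_KL {k : G} (hk : k • v = v) {g : G} (hg : g ∈ KL v) : k * g * k⁻¹ ∈ KL v := by
  obtain ⟨hgM, hg1⟩ := mem_KL.1 hg
  have hkg : k * g * k⁻¹ ∈ M := hMn.conj_mem g hgM k
  refine mem_KL.2 ⟨hkg, ?_⟩
  have h1 : (k • v).hom ⟨k * g * k⁻¹, hkg⟩ = v.hom ⟨k * g * k⁻¹, hkg⟩ := by rw [hk]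
  rw [LC.smul_hom] at h1
  rw [← h1, ← hg1]
  congr 1
  apply Subtype.ext
  show k⁻¹ * (k * g * k⁻¹) * k = g
  group

theorem stab_norm {k : G} (hk : k • v = v) : k ∈ Subgroup.normalizer ((ZL h v : Subgroup G) : Set G) := by
  have key : ∀ k : G, k • v = v → ∀ x ∈ ZL h v, k * x * k⁻¹ ∈ ZL h v := by
    intro k hk x hx
    refine ⟨hPn.conj_mem x hx.1 k, fun y hy => ?_⟩
    have hy' : k⁻¹ * y * k ∈ P := by
      have := hPn.conj_mem y hy k⁻¹
      rwa [inv_inv] at this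
    have h1 := conj_KL h v hk (hx.2 _ hy')
    have h2 : ⁅k * x * k⁻¹, y⁆ = k * ⁅x, k⁻¹ * y * k⁆ * k⁻¹ := by
      rw [commutatorElement_def, commutatorElement_def]; group
    rw [h2]
    exact h1
  rw [Subgroup.mem_normalizer_iff]
  intro x
  refine ⟨key k hk x, fun hx => ?_⟩
  have := key k⁻¹ (by rw [inv_smul_eq_iff]; exact hk.symm) _ hx
  have e : k⁻¹ * (k * x * k⁻¹) * k⁻¹⁻¹ = x := by group
  rwa [e] at this

/-! ### Uniqueness -/

variable {v} {μ : ↥(ZL h v) →* ℂˣ} (hμ : ∀ m : M, μ ⟨m, M_le_ZL h v m.2⟩ = v.hom m)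

include hμ

theorem P_le_stab : P ≤ stab (lf μ : ↥(ZL h v) → ℂ) := by
  intro y hy
  refine ⟨P_norm h v hy, ?_⟩
  funext z
  rw [tw_apply (P_norm h v hy)]
  have h1 : ⁅y, (z : G)⁆ ∈ M := comm_mem h hy z.2.1
  have h2 : (⟨y * z * y⁻¹, conj_mem_of_mem (P_norm h v hy) z⟩ : ↥(ZL h v)) =
      ⟨⁅y, (z : G)⁆, M_le_ZL h v h1⟩ * z := by
    apply Subtype.ext
    show y * z * y⁻¹ = ⁅y, (z : G)⁆ * z
    rw [commutatorElement_def]; group
  have h3 : ⁅y, (z : G)⁆ ∈ KL v := by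
    have := Subgroup.inv_mem _ (z.2.2 y hy)
    rwa [commutatorElement_inv] at this
  obtain ⟨h4, h5⟩ := mem_KL.1 h3
  show ((μ _ : ℂˣ) : ℂ) = (μ z : ℂ)
  rw [h2, map_mul, hμ ⟨_, h1⟩, h5, one_mul]

theorem on_Z {θ : P → ℂ} (hθ : IsIrrCharacter P θ) (ho : Over (Subgroup.inclusion (ZL_le h v)) θ (lf μ)) :
    ∀ z : ↥(ZL h v), θ (Subgroup.inclusion (ZL_le h v) z) = θ 1 * (μ z : ℂ) := by
  obtain ⟨c, -, hc⟩ := res_of_inv (ZL_le h v) (isIrr_lf μ) (P_le_stab h hμ) hθ ho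
  have h1 := hc 1
  rw [map_one, lf_apply, map_one, Units.val_one, mul_one] at h1
  intro z
  rw [hc, h1, lf_apply]

theorem zero_off {θ : P → ℂ} (hθ : IsIrrCharacter P θ) (ho : Over (Subgroup.inclusion (ZL_le h v)) θ (lf μ))
    {x : P} (hx : (x : G) ∉ ZL h v) : θ x = 0 := by
  obtain ⟨y, hy, hy'⟩ : ∃ y ∈ P, ⁅(x : G), y⁆ ∉ KL v := by
    by_contra hcon
    push Not at hcon
    exact hx ⟨x.2, hcon⟩
  have hm : ⁅y, (x : G)⁆ ∈ M := comm_mem h hy x.2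
  have hne : v.hom ⟨⁅y, (x : G)⁆, hm⟩ ≠ 1 := by
    intro h1
    apply hy'
    have h2 : ⁅y, (x : G)⁆ ∈ KL v := mem_KL.2 ⟨hm, h1⟩
    have := Subgroup.inv_mem _ h2
    rwa [commutatorElement_inv] at this
  -- the central element
  obtain ⟨ω, -, hω⟩ := CharactersDeep.SmallDegree.exists_central_mul hθ (z := (⟨⁅y, (x : G)⁆, M_le h hm⟩ : P))
    (fun g => Subtype.ext (h.cen _ hm g g.2).symm)
  have h1 : ω = (v.hom ⟨⁅y, (x : G)⁆, hm⟩ : ℂ) := by
    have h2 := hω 1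
    rw [one_mul] at h2
    have h3 := on_Z h hμ hθ ho ⟨⁅y, (x : G)⁆, M_le_ZL h v hm⟩
    have h4 : Subgroup.inclusion (ZL_le h v) ⟨⁅y, (x : G)⁆, M_le_ZL h v hm⟩ = (⟨⁅y, (x : G)⁆, M_le h hm⟩ : P) := rfl
    rw [h4, h2, hμ ⟨_, hm⟩, mul_comm] at h3
    exact mul_left_cancel₀ (isIrr_apply_one_ne_zero hθ) h3
  have h2 := hω x
  have h3 : θ (x * ⟨⁅y, (x : G)⁆, M_le h hm⟩) = θ x := by
    have h4 : x * ⟨⁅y, (x : G)⁆, M_le h hm⟩ = (⟨y, hy⟩ : P) * x * (⟨y, hy⟩ : P)⁻¹ := by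
      apply Subtype.ext
      show (x : G) * ⁅y, (x : G)⁆ = y * x * y⁻¹
      rw [← h.cen _ hm x x.2, commutatorElement_def]
      group
    rw [h4]
    exact isIrr_isClassFunction hθ _ _
  rw [h3, h1] at h2
  have h4 : ((v.hom ⟨⁅y, (x : G)⁆, hm⟩ : ℂ) - 1) * θ x = 0 := by rw [sub_mul, one_mul, ← h2, sub_self]
  rcases mul_eq_zero.1 h4 with h5 | h5
  · exact absurd (Units.ext (sub_eq_zero.1 h5)) hne
  · exact h5

/-- **Uniqueness.** -/
theorem uniq {θ θ' : P → ℂ} (hθ : IsIrrCharacter P θ) (ho : Over (Subgroup.inclusion (ZL_le h v)) θ (lf μ))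
    (hθ' : IsIrrCharacter P θ') (ho' : Over (Subgroup.inclusion (ZL_le h v)) θ' (lf μ)) : θ = θ' := by
  classical
  letI := Fintype.ofFinite P
  have h1 : θ = (θ 1 / θ' 1) • θ' := by
    funext x
    rw [Pi.smul_apply, smul_eq_mul]
    by_cases hx : (x : G) ∈ ZL h v
    · have e1 := on_Z h hμ hθ ho ⟨x, hx⟩
      have e2 := on_Z h hμ hθ' ho' ⟨x, hx⟩
      have e3 : Subgroup.inclusion (ZL_le h v) ⟨(x : G), hx⟩ = x := rfl
      rw [e3] at e1 e2
      rw [e1, e2, div_mul_eq_mul_div, mul_left_comm, mul_div_assoc, mul_comm]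
      have := isIrr_apply_one_ne_zero hθ'
      field_simp
    · rw [zero_off h hμ hθ ho hx, zero_off h hμ hθ' ho' hx, mul_zero]
  by_contra hne
  have h2 := classInner_irr_ne hθ hθ' hne
  rw [h1, classInner_smul_left, classInner_irr_self hθ', mul_one] at h2
  exact (div_ne_zero (isIrr_apply_one_ne_zero hθ) (isIrr_apply_one_ne_zero hθ')) h2

end pre

end Cfsg.Agent.H55.T2a
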