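import Cfsg.Agent.H55.Palfy.Inv

/-!
# `FactT2a` (helper55)

* `exists_l0` : an extension of `λ` to `Z`;
* `exists_mu` : an invariant extension;
* `exists_theta` : `θ ∈ Irr P` with the stabilizer of `λ` in `H`, `p ∣ θ(1)` if `λ ≠ 1`;
* `factT2a`.
-/

set_option autoImplicit false
set_option linter.unusedSectionVars false
set_option linter.style.haveILetI false

namespace Cfsg.Agent.H55.T2a

open Cfsg Cfsg.Agent.H670.Palfy Subgroup
open Cfsg.Agent.H672 Cfsg.Agent.H672.RM Cfsg.Agent.H675.Nd Cfsg.Agent.Characters.Core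
open scoped commutatorElement

universe u

variable {G : Type u} [Group G] [Finite G] {M P H : Subgroup G} [hMn : M.Normal] [hPn : P.Normal] {p : ℕ}

section pre

variable (h : T2pre G M P H p)

include h

/-- an extension to `Z` -/
theorem exists_l0 (v : LC M) : ∃ l : ↥(ZL h v) →* ℂˣ, ∀ m : M, l ⟨m, M_le_ZL h v m.2⟩ = v.hom m := by
  obtain ⟨μ, hμ, ho⟩ := exists_over_incl (M_le_ZL h v) (isIrr_lf v.hom)
  have hst : ZL h v ≤ stab (lf v.hom : M → ℂ) := by
    intro z hz
    have hn : z ∈ Subgroup.normalizer (M : Set G) := by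
      rw [Subgroup.normalizer_eq_top]; exact Subgroup.mem_top z
    refine ⟨hn, ?_⟩
    funext m
    refine tw_apply' hn _ m m ?_
    rw [← h.cen m m.2 z hz.1, mul_inv_cancel_right]
  obtain ⟨c, hc0, hc⟩ := res_of_inv (M_le_ZL h v) (isIrr_lf v.hom) hst hμ ho
  have hc1 : μ 1 = c := by
    have := hc 1
    rwa [map_one, lf_apply, map_one, Units.val_one, mul_one] at this
  have hlin : charDegree μ = 1 := by
    refine H597.RelThompson.charDegree_eq_one hμ fun k hk => ?_
    have hle : commutator ↥(ZL h v) ≤ (KL v).subgroupOf (ZL h v) := by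
      rw [_root_.commutator_def, Subgroup.commutator_le]
      intro a _ b _
      rw [Subgroup.mem_subgroupOf]
      exact a.2.2 b b.2.1
    obtain ⟨h1, h2⟩ := mem_KL.1 (Subgroup.mem_subgroupOf.1 (hle hk))
    have h3 := hc ⟨k, h1⟩
    have h4 : Subgroup.inclusion (M_le_ZL h v) ⟨(k : G), h1⟩ = k := rfl
    rw [h4, lf_apply, h2, Units.val_one, mul_one] at h3
    rw [h3, hc1]
  obtain ⟨l, rfl⟩ := exists_hom_of_degree_one hμ hlin
  refine ⟨l, fun m => Units.ext ?_⟩
  have h1 : c = 1 := by rw [← hc1, lf_apply, map_one, Units.val_one]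
  have h2 := hc m
  rw [h1, one_mul, lf_apply, lf_apply] at h2
  exact h2

/-- an invariant extension to `Z` -/
theorem exists_mu (v : LC M) : ∃ μ : ↥(ZL h v) →* ℂˣ, (∀ m : M, μ ⟨m, M_le_ZL h v m.2⟩ = v.hom m) ∧
    ∀ (k : H) (hk : (k : G) • v = v) (z : ↥(ZL h v)), μ (cj (stab_norm h v hk) z) = μ z := by
  classical
  obtain ⟨l, hl⟩ := exists_l0 h v
  let S := MulAction.stabilizer H v
  have hS : ∀ k : S, ((k : H) : G) • v = v := fun k => k.2
  letI := Fintype.ofFinite S
  let f : S → (↥(ZL h v) →* ℂˣ) := fun k => l.comp (cj (stab_norm h v (hS k))).toMonoidHom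
  have hf : ∀ (k : S) (z : ↥(ZL h v)), f k z = l (cj (stab_norm h v (hS k)) z) := fun _ _ => rfl
  have hfM : ∀ (k : S) (m : M), f k ⟨m, M_le_ZL h v m.2⟩ = v.hom m := by
    intro k m
    rw [hf]
    have h1 : (((k : H) : G) • v).hom ⟨(k : H) * m * ((k : H) : G)⁻¹, hMn.conj_mem m m.2 _⟩ =
        v.hom ⟨(k : H) * m * ((k : H) : G)⁻¹, hMn.conj_mem m m.2 _⟩ := by rw [hS k]
    rw [LC.smul_hom] at h1
    have h2 : cj (stab_norm h v (hS k)) ⟨m, M_le_ZL h v m.2⟩ =
        ⟨((⟨(k : H) * m * ((k : H) : G)⁻¹, hMn.conj_mem m m.2 _⟩ : M) : G),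
          M_le_ZL h v (hMn.conj_mem m m.2 _)⟩ := rfl
    rw [h2, hl, ← h1]
    congr 1
    apply Subtype.ext
    show ((k : H) : G)⁻¹ * ((k : H) * m * ((k : H) : G)⁻¹) * (k : H) = m
    group
  let a : ℤ := Nat.gcdA (Nat.card S) (Nat.card M)
  have hcop : Nat.gcd (Nat.card S) (Nat.card M) = 1 := by
    have h1 : Nat.card S ∣ Nat.card H := Subgroup.card_subgroup_dvd_card _
    have h2 : Nat.card M ∣ Nat.card P := Subgroup.card_dvd_of_le (M_le h)
    exact ((coprime h).symm.coprime_dvd_left h1).coprime_dvd_right h2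
  refine ⟨(∏ k : S, f k) ^ a, fun m => ?_, fun k hk z => ?_⟩
  · have h1 : (∏ k : S, f k) ⟨m, M_le_ZL h v m.2⟩ = v.hom m ^ Nat.card S := by
      rw [MonoidHom.finsetProd_apply, Finset.prod_congr rfl (fun k _ => hfM k m), Finset.prod_const,
        Finset.card_univ, Nat.card_eq_fintype_card]
    have h2 : v.hom m ^ Nat.card M = 1 := by rw [← map_pow, pow_card_eq_one', map_one]
    have h3 : ((∏ k : S, f k) ^ a) ⟨m, M_le_ZL h v m.2⟩ = ((∏ k : S, f k) ⟨m, M_le_ZL h v m.2⟩) ^ a := rfl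
    rw [h3, h1, ← zpow_natCast, ← zpow_mul]
    have h4 := Nat.gcd_eq_gcd_ab (Nat.card S) (Nat.card M)
    rw [hcop, Nat.cast_one] at h4
    have h5 : (Nat.card S : ℤ) * a = 1 - Nat.card M * Nat.gcdB (Nat.card S) (Nat.card M) := by
      show (Nat.card S : ℤ) * Nat.gcdA (Nat.card S) (Nat.card M) = _
      linarith [h4]
    rw [h5, zpow_sub, zpow_one, zpow_mul, zpow_natCast, h2, one_zpow, inv_one, mul_one]
  · have h3 : ∀ z : ↥(ZL h v), ((∏ k : S, f k) ^ a) z = ((∏ k : S, f k) z) ^ a := fun _ => rfl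
    rw [h3, h3]
    congr 1
    rw [MonoidHom.finsetProd_apply, MonoidHom.finsetProd_apply]
    refine Fintype.prod_equiv (Equiv.mulRight (⟨k, hk⟩ : S)) _ _ fun x => ?_
    rw [hf, hf]
    congr 1
    apply Subtype.ext
    show ((x : H) : G) * (k * z * (k : G)⁻¹) * ((x : H) : G)⁻¹ = (x : H) * k * z * ((x : H) * k : G)⁻¹
    group

/-- **The character `θ`.** -/
theorem exists_theta (v : LC M) (hv : v ≠ 0) : ∃ θ : P → ℂ, IsIrrCharacter P θ ∧
    (∀ k : H, k ∈ MulAction.stabilizer H v ↔ (k : G) ∈ stab θ) ∧ p ∣ charDegree θ := by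
  classical
  have hf : Fact p.Prime := ⟨h.prime⟩
  obtain ⟨μ, hμ, hinv⟩ := exists_mu h v
  obtain ⟨θ, hθ, ho⟩ := exists_over_incl (ZL_le h v) (isIrr_lf μ)
  have hnP : ∀ g : G, g ∈ Subgroup.normalizer (P : Set G) := fun g => by
    rw [Subgroup.normalizer_eq_top]; exact Subgroup.mem_top g
  have hnM : ∀ g : G, g ∈ Subgroup.normalizer (M : Set G) := fun g => by
    rw [Subgroup.normalizer_eq_top]; exact Subgroup.mem_top g
  have hθM : ∀ m : M, θ (Subgroup.inclusion (M_le h) m) = θ 1 * (v.hom m : ℂ) := by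
    intro m
    have h1 := on_Z h hμ hθ ho ⟨m, M_le_ZL h v m.2⟩
    rw [hμ m] at h1
    exact h1
  have hθ1 := isIrr_apply_one_ne_zero hθ
  refine ⟨θ, hθ, fun k => ⟨fun hk => ?_, fun hk => ?_⟩, ?_⟩
  · have hk' : (k : G) • v = v := hk
    refine ⟨hnP _, ?_⟩
    refine uniq h hμ (isIrr_tw (hnP _) hθ) ?_ hθ ho
    have h1 : tw (ZL h v) (k : G) (lf μ) = lf μ := by
      rw [tw_eq_comp (stab_norm h v hk')]
      funext z
      exact congrArg Units.val (hinv k hk' z)
    rw [← h1]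
    exact (over_tw_tw (ZL_le h v) (stab_norm h v hk') (hnP _) θ (lf μ)).2 ho
  · show (k : G) • v = v
    rw [smul_eq_iff]
    refine ⟨hnM _, ?_⟩
    funext m
    rw [tw_apply (hnM _)]
    have h1 := congrFun hk.2 (Subgroup.inclusion (M_le h) m)
    rw [tw_apply (hnP _), hθM] at h1
    have h2 := hθM ⟨(k : G) * m * (k : G)⁻¹, hMn.conj_mem m m.2 _⟩
    have h3 := h2.symm.trans h1
    exact mul_left_cancel₀ hθ1 h3
  · rcases H670.PSing.charDegree_pgroup h.isP hθ with h1 | h1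
    · exfalso
      refine nonlin_of_over (M_le h) (le_of_eq h.comm.symm) hθ (isIrr_lf v.hom) ?_ ?_ h1
      · intro h2
        apply hv
        apply LC.ext
        intro m
        exact Units.ext (congrFun h2 m)
      · letI := Fintype.ofFinite M
        rw [over_iff]
        have h2 : θ ∘ Subgroup.inclusion (M_le h) = θ 1 • (lf v.hom : M → ℂ) := by
          funext m
          exact hθM m
        rw [h2, classInner_smul_left, classInner_irr_self (isIrr_lf v.hom), mul_one]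
        exact hθ1
    · exact h1

/-- **`cfgV`** -/
theorem cfgV : Cfg (charDegrees G) H (LC M) p := by
  intro v hv d hd
  obtain ⟨θ, hθ, hS, hp⟩ := exists_theta h v hv
  exact ⟨_, core h.compl (coprime h) hθ (MulAction.stabilizer H v) hS hd, dvd_mul_right _ _,
    hp.mul_left _⟩

end pre

/-- **The fields of `T2` on degrees.** -/
theorem factT2a : Cfsg.Agent.H670.Palfy.FactT2a.{u} := by
  intro G _ _ _ M P H hMn hPn p h
  refine ⟨irr h, card h, cardW h, cd h, cfgV h, cfgW h, fun k hk v => ker h (k := (k : G)) hk v, ?_⟩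
  intro z hz hzp hr Z hZ hab ht
  exact nt h hz hzp hr Z hZ hab ht

end Cfsg.Agent.H55.T2a
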